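import Cfsg.Agent.H58.Rec.Outer_m3
import Cfsg.Agent.H915.GNDefs_m3
import Cfsg.Agent.H537.CopDefs
import Cfsg.Agent.H489.OutSpor
import Cfsg.Agent.H981.SCON
import Cfsg.Agent.S2078
import Cfsg.Agent.Prune
set_option linter.all false
open scoped Cfsg.Agent.FastGrp

-- part: H474/Rec/Tool
section
/-!
# Recognition by spectrum: small tools (helper474)
-/

set_option autoImplicit false

namespace Cfsg.Agent.H474.Rec

open Subgroup
open Cfsg.Agent.H58.Rec
open Cfsg.Agent.H537.Cop
open Cfsg.Agent.H455.Isolated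

universe u v w

/-- no element of order `n` if the centralizer of an element of order `m ∣ n` has order prime to it -/
theorem not_hasOrd_of_cent {M : Type*} [Group M] {n m c : ℕ} (hm : m ∣ n) (hn : 0 < n)
    (hc : ∀ x : M, orderOf x = m → Nat.card (centralizer ({x} : Set M)) = c) (hd : ¬ n ∣ c) : ¬ HasOrd M n := by
  rintro ⟨g, hg⟩
  obtain ⟨k, rfl⟩ := hm
  have hk : 0 < k := Nat.pos_of_ne_zero (by rintro rfl; simp at hn)
  have h1 : orderOf (g ^ k) = m := by
    rw [orderOf_pow_of_dvd hk.ne' (by rw [hg]; exact dvd_mul_left k m), hg, Nat.mul_div_cancel _ hk]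
  have h2 : g ∈ centralizer ({g ^ k} : Set M) := by
    rw [mem_centralizer_singleton_iff]
    exact (Commute.refl g).pow_right k
  have h3 := orderOf_dvd_natCard (⟨g, h2⟩ : centralizer ({g ^ k} : Set M))
  rw [Subgroup.orderOf_mk, hg, hc _ h1] at h3
  exact hd h3

theorem isolated_of_sc' {M : Type*} [Group M] {s : ℕ} (hs : s.Prime) (h : SC s M) : Isolated M s := by
  rw [isolated_iff]
  intro t ht hts
  refine not_hasOrd_of_cent (m := s) (dvd_mul_right s t) (Nat.mul_pos hs.pos ht.pos) h ?_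
  intro h1
  have h2 : t ∣ s := (dvd_mul_left t s).trans h1
  exact hts ((Nat.prime_dvd_prime_iff_eq ht hs).1 h2)

theorem HasOrd.dvd_card {M : Type*} [Group M] {n : ℕ} (h : HasOrd M n) : n ∣ Nat.card M := by
  obtain ⟨g, rfl⟩ := h
  exact orderOf_dvd_natCard g

/-- the prime divisors of `|S|` -/
theorem prime_dvd {G : Type u} [Group G] [Finite G] {M : Type v} [Group M] [Finite M] (hs : Same G M) {X : Type w}
    [Group X] {π : G →* X} {S : Subgroup X} {r : ℕ} (h : Red π S r) {p : ℕ} (hp : p.Prime) (hd : p ∣ Nat.card S) :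
    p ∣ Nat.card M := by
  have hfX : Finite X := Finite.of_surjective π h.surj
  rw [← hasOrd_prime hp, ← hs p]
  exact h.hasOrd' ((hasOrd_prime hp).2 hd)

/-- the name of `S` -/
theorem exists_name' (hN : NameHyp.{u}) {G : Type u} [Group G] [Finite G] {M : Type v} [Group M] [Finite M]
    (hs : Same G M) {X : Type u} [Group X] {π : G →* X} {S : Subgroup X} {r₀ : ℕ} (h : Red π S r₀)
    {ps rs : List ℕ} {B N : ℕ}
    (hB : 7 ≤ B) (hps : ∀ p ∈ ps, p ≤ B) (hNp : N.Prime) (hNps : N ∉ ps)
    (hM : ∀ r, r.Prime → r ∣ Nat.card M → r ∈ ps) (hrs : ∀ r ∈ rs, r ∣ Nat.card S) :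
    ∃ g, Cfsg.Agent.H436.IsNamed g S ∧ g ∈ lst ps rs B N := by
  have hfX : Finite X := Finite.of_surjective π h.surj
  have := h.simple
  obtain ⟨g, hg⟩ := hN S h.nonab
  exact ⟨g, hg, mem_lst hg hB hps hNp hNps (fun r hr hd => hM r hr (prime_dvd hs h hr hd)) hrs⟩

/-- the last step with `|Out M| ≤ 2` and all elements of odd order `s` of `M` conjugate, `2 s` not an order -/
theorem finish_class {G : Type u} [Group G] [Finite G] {X : Type v} [Group X] {M : Type w} [Group M] [Finite M] {π : G →* X}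
    {S : Subgroup X} {r : ℕ} (h : Red π S r) (hk : ∀ p : ℕ, p.Prime → p ∣ Nat.card G → ¬ p ∣ Nat.card π.ker)
    (e : S ≃* M) (hO : Nat.card (Cfsg.Out M) ≤ 2) {s : ℕ} (hodd : Odd s) (hs : HasOrd M s)
    (hcl : ∀ a b : M, orderOf a = s → orderOf b = s → IsConj a b) (hno : ¬ HasOrd G (2 * s)) : Nonempty (G ≃* M) := by
  refine finish h hk e ?_
  have hpos : 0 < Nat.card (Cfsg.Out M) := by
    have hfA : Finite (MulAut M) := Finite.of_injective (fun f : MulAut M => (f : M → M)) (fun f g hfg => by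
      ext x; exact congrFun hfg x)
    exact Nat.card_pos
  rcases (by omega : Nat.card (Cfsg.Out M) = 1 ∨ Nat.card (Cfsg.Out M) = 2) with h1 | h1
  · exact Or.inl h1
  · refine Or.inr ⟨h1, ?_⟩
    intro hSn hidx hfX hX
    apply hno
    apply hX
    refine hasOrd_two_mul_of_class S hidx hodd (hs.congr e.symm) fun a b ha hb => ?_
    have h2 := hcl (e a) (e b) (by rw [MulEquiv.orderOf_eq, ha]) (by rw [MulEquiv.orderOf_eq, hb])
    obtain ⟨c, hc⟩ := isConj_iff.1 h2
    rw [isConj_iff]
    refine ⟨e.symm c, e.injective ?_⟩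
    rw [map_mul, map_mul, map_inv, MulEquiv.apply_symm_apply, hc]

end Cfsg.Agent.H474.Rec
end

-- part: H474/Rec/RowON
section
/-!
# Recognition by spectrum: the O'Nan group (helper474)
-/

set_option autoImplicit false
set_option maxRecDepth 100000

namespace Cfsg.Agent.H474.Rec

open Subgroup Cfsg
open Cfsg.Spor (ON)
open Cfsg.Agent.H58.Rec
open Cfsg.Agent.H537.Cop
open Cfsg.Agent.H455.Isolated
open Cfsg.Agent.H474.ONC
open Cfsg.Agent.KFacts.ON.Struct
open Cfsg.Agent.KFacts.ON.Cent (hON finite_ON cen card_K0)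

universe u v

namespace ONRow

theorem sc11 : SC 11 ON := fun _ hx => card_cent_eleven hx
theorem sc19 : SC 19 ON := fun _ hx => H981.SCON.card_cent_nineteen hx
theorem sc31 : SC 31 ON := H981.SCON.sc_on

theorem not_22 : ¬ HasOrd ON 22 :=
  not_hasOrd_of_cent (m := 11) (c := 11) (by norm_num) (by norm_num) sc11 (by norm_num)

theorem not_35 : ¬ HasOrd ON 35 :=
  not_hasOrd_of_cent (m := 5) (c := 180) (by norm_num) (by norm_num) (fun _ hx => card_cent_five hx) (by norm_num)

theorem not_25 : ¬ HasOrd ON 25 := fun h => by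
  have := HasOrd.dvd_card h
  rw [card_ON] at this
  revert this
  norm_num

/-- no element of order 30 -/
theorem not_30 : ¬ HasOrd ON 30 := by
  have hfin := finite_ON
  rintro ⟨g, hg⟩
  -- the involution `g ^ 15`
  have h15 : orderOf (g ^ 15) = 2 := by
    rw [orderOf_pow_of_dvd (by norm_num) (by rw [hg]; norm_num), hg]
  have h1 : g ^ 15 * g ^ 15 = 1 := by rw [← pow_two, ← h15, pow_orderOf_eq_one]
  have h2 : g ^ 15 ≠ 1 := by
    intro h
    rw [h, orderOf_one] at h15
    norm_num at h15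
  obtain ⟨c, hc⟩ := isConj_iff.1 (KFacts.ON.OneClass.one_class h1 h2)
  set k := c * g * c⁻¹ with hk
  have hk30 : orderOf k = 30 := by
    rw [← hg]
    exact (MulAut.conj c).orderOf_eq g
  have hkp : ∀ n : ℕ, k ^ n = c * g ^ n * c⁻¹ := fun n => by rw [hk, conj_pow]
  have hkf : k ^ 15 = SporadicB.ON45Word.on .f := by rw [hkp, hc]
  set x := k ^ 6 with hx
  have hxo : orderOf x = 5 := by
    rw [hx, orderOf_pow_of_dvd (by norm_num) (by rw [hk30]; norm_num), hk30]
  have hxK : x ∈ ONType.TupK.K0 := by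
    rw [mem_K0, ← hkf, hx, ← pow_add, ← pow_add]
  have hx5 : x ^ 5 = 1 := by rw [← hxo, pow_orderOf_eq_one]
  have hL := loc_five hxo (mem_J_of_odd hxK (by decide : Odd 5) hx5)
  obtain ⟨i, j, hij⟩ := hL.cent k (by rw [hx, ← pow_succ, ← pow_succ']) (by
    rw [v_sq, ← hkf, ← pow_succ, ← pow_succ'])
  have e1 : x ^ 20 = 1 := by
    rw [show (20 : ℕ) = 5 * 4 by norm_num, pow_mul, hx5, one_pow]
  have e2 : KFacts.ON.Words.v ^ 20 = 1 := by
    rw [show (20 : ℕ) = 4 * 5 by norm_num, pow_mul, hL.v4, one_pow]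
  have h3 : k ^ 20 = 1 := by
    have h5 := hL.commute i j
    clear_value x
    rw [hij, h5.mul_pow, pow_right_comm, e1, one_pow, one_mul, pow_right_comm, e2, one_pow]
  have h4 := orderOf_dvd_of_pow_eq_one h3
  rw [hk30] at h4
  revert h4
  norm_num

theorem card_lst : lst [2, 3, 5, 7, 11, 19, 31] [11, 19, 31] 31 37 = [.on] := by rewrite [Cfsg.Agent.H58.Rec.Q11.lst_fast]; decide +kernel

/-- the prime divisors -/
theorem primes {r : ℕ} (hr : r.Prime) (h : r ∣ Nat.card ON) : r ∈ [2, 3, 5, 7, 11, 19, 31] := by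
  rw [card_ON, show (460815505920 : ℕ) = 2 ^ 9 * (3 ^ 4 * (5 * (7 ^ 3 * (11 * (19 * 31))))) by norm_num] at h
  have key : ∀ {p k : ℕ}, p.Prime → r ∣ p ^ k → r = p := fun hp h => (Nat.prime_dvd_prime_iff_eq hr hp).1
    (hr.dvd_of_dvd_pow h)
  have key' : ∀ {p : ℕ}, p.Prime → r ∣ p → r = p := fun hp h => (Nat.prime_dvd_prime_iff_eq hr hp).1 h
  rcases hr.dvd_mul.1 h with h | h
  · simp [key (by norm_num) h]
  rcases hr.dvd_mul.1 h with h | h
  · simp [key (by norm_num) h]
  rcases hr.dvd_mul.1 h with h | h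
  · simp [key' (by norm_num) h]
  rcases hr.dvd_mul.1 h with h | h
  · simp [key (by norm_num) h]
  rcases hr.dvd_mul.1 h with h | h
  · simp [key' (by norm_num) h]
  rcases hr.dvd_mul.1 h with h | h
  · simp [key' (by norm_num) h]
  · simp [key' (by norm_num) h]

theorem iso11 : Isolated ON 11 := isolated_of_sc' (by norm_num) sc11
theorem iso19 : Isolated ON 19 := isolated_of_sc' (by norm_num) sc19
theorem iso31 : Isolated ON 31 := isolated_of_sc' (by norm_num) sc31

theorem frob11 : HasFrob ON 11 10 := by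
  have hfin := finite_ON
  exact hasFrob_of_isolated (by norm_num) card_ON iso11 (by norm_num) (by norm_num) (by norm_num) (by decide +kernel)

theorem frob31 : HasFrob ON 31 15 := by
  have hfin := finite_ON
  exact hasFrob_of_isolated (by norm_num) card_ON iso31 (by norm_num) (by norm_num) (by norm_num) (by decide +kernel)

/-- the row for the model -/
theorem model (hN : NameHyp.{u}) {G : Type u} [Group G] [Finite G] [Finite ON] (h : Same G ON) : Nonempty (G ≃* ON) := by
  have d2 : 2 ∣ Nat.card ON := by rw [card_ON]; norm_num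
  have d11 : 11 ∣ Nat.card ON := by rw [card_ON]; norm_num
  have d19 : 19 ∣ Nat.card ON := by rw [card_ON]; norm_num
  have d31 : 31 ∣ Nat.card ON := by rw [card_ON]; norm_num
  have p11 : Nat.Prime 11 := by norm_num
  have p19 : Nat.Prime 19 := by norm_num
  have p31 : Nat.Prime 31 := by norm_num
  have g11 : Good G 11 := (good_of_two p11 (by norm_num) d11 iso11 p19 (by norm_num) d19 iso19 (by norm_num)).of_same h
  have g19 : Good G 19 := (good_of_two p19 (by norm_num) d19 iso19 p11 (by norm_num) d11 iso11 (by norm_num)).of_same h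
  have g31 : Good G 31 := (good_of_two p31 (by norm_num) d31 iso31 p11 (by norm_num) d11 iso11 (by norm_num)).of_same h
  have hns : ¬ Group.IsSolvable G := not_solvable_of_same h p11 p19 p31 (by norm_num) (by norm_num) (by norm_num)
    d11 d19 d31 ((isolated_iff.1 iso11) 19 p19 (by norm_num)) ((isolated_iff.1 iso11) 31 p31 (by norm_num))
    ((isolated_iff.1 iso19) 31 p31 (by norm_num))
  obtain ⟨X, _, _, π, S, hR⟩ := exists_red hns ((dvd_of_same h Nat.prime_two).2 d2) g11
  have r11 := hR 11 g11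
  have r19 := hR 19 g19
  have r31 := hR 31 g31
  have hM : ∀ r, r.Prime → r ∣ Nat.card ON → r ∈ [2, 3, 5, 7, 11, 19, 31] := fun r hr hd => primes hr hd
  obtain ⟨g, hg, hgl⟩ := exists_name' hN h r11 (ps := [2, 3, 5, 7, 11, 19, 31]) (rs := [11, 19, 31]) (B := 31) (N := 37)
    (by norm_num) (by decide) (by norm_num) (by decide) hM (by
      intro r hr
      fin_cases hr
      · exact r11.dvd
      · exact r19.dvd
      · exact r31.dvd)
  rw [card_lst, List.mem_singleton] at hgl
  subst hgl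
  obtain ⟨e⟩ : Nonempty (S ≃* ON) := hg.real
  have f11 : HasFrob S 11 10 := frob11.congr e.symm
  have f31 : HasFrob S 31 15 := frob31.congr e.symm
  refine finish_class r11 ?_ e (by rw [S2078.result]) (s := 11) (by decide) ((hasOrd_prime p11).2 d11)
    (one_class p11 (by rw [card_ON]; norm_num) frob11) (fun h1 => not_22 ((h _).1 h1))
  intro p hp hpG
  have hpM : p ∣ Nat.card ON := (dvd_of_same h hp).1 hpG
  have hp' := primes hp hpM
  simp only [List.mem_cons, List.not_mem_nil, or_false] at hp'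
  rcases hp' with rfl | rfl | rfl | rfl | rfl | rfl | rfl
  · exact r11.kill' hp p31 (by norm_num) f31 (fun h1 => not_30 ((h _).1 h1))
  · exact r11.kill' hp p11 (by norm_num) f11 (fun h1 => not_30 ((h _).1 h1))
  · exact r11.kill' hp p11 (by norm_num) (f11.of_dvd (m := 5) (by norm_num)) (fun h1 => not_25 ((h _).1 h1))
  · exact r11.kill' hp p11 (by norm_num) (f11.of_dvd (m := 5) (by norm_num)) (fun h1 => not_35 ((h _).1 h1))
  · exact r11.not_dvd
  · exact r19.not_dvd
  · exact r31.not_dvd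

end ONRow

/-- **The row ON.** -/
theorem rec_on (hN : NameHyp.{u}) {G : Type u} [Group G] [Finite G] {M : Type v} [Group M] [Finite M] (hM : Spor.IsoON M)
    (h : Same G M) : Nonempty (G ≃* M) := by
  obtain ⟨e⟩ := hM
  have hfin : Finite ON := Finite.of_equiv M e.toEquiv
  obtain ⟨f⟩ := ONRow.model hN (G := G) fun n => by
    rw [h n]
    exact ⟨fun h1 => h1.congr e, fun h1 => h1.congr e.symm⟩
  exact ⟨f.trans e.symm⟩

end Cfsg.Agent.H474.Rec
end
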